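import Mathlib
import Groth.Agent.RefHullLib.Hartogs
import Groth.Agent.RefHullLib.LowDim
import Groth.Agent.RefHullLib.FreeLocus
import Groth.Agent.VarietyLib.LocalDimPt
import Groth.Agent.DimLib.Components
import Groth.Agent.OmegaLib.StalkLocal
import Groth.Agent.WeilFin.Ops
import Groth.Agent.Coherent.CohBC.HomSheaf

/-!
# Resolutions on a surface from resolutions on two punctured surfaces
-/

set_option autoImplicit false
set_option backward.isDefEq.respectTransparency.types false

universe u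

open CategoryTheory Limits AlgebraicGeometry IsLocalRing TopologicalSpace Opposite
open Groth.Agent.Coherent Groth.Agent.PicLib Groth.Agent.RefHullLib

namespace Groth.Agent.TwoPunct8

variable {X : Scheme.{u}}

/-- A point off the open is not associated to `j_* j^* M` if `M` is torsion free near it on the open. -/
theorem notMem_ass_push_of_nhd [IsLocallyNoetherian X] [IsIntegral X] (M : X.Modules) (U N : X.Opens)
    {x : X} (hxN : x ∈ N) (hxη : x ≠ genericPoint X)
    (htf : ∀ y ∈ U ⊓ N, Module.IsTorsionFree (X.presheaf.stalk y) (M.presheaf.stalk y)) :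
    x ∉ AssSch.Ass ((Scheme.Modules.pushforward U.ι).obj (M.restrict U.ι)) := by
  let G := (Scheme.Modules.pushforward U.ι).obj (M.restrict U.ι)
  intro h
  obtain ⟨hprime, z, hz⟩ := (isAssociatedPrime_iff (R := X.presheaf.stalk x)).1 h
  obtain ⟨_, ⟨V, hV, rfl⟩, hxV, hVN⟩ :=
    X.isBasis_affineOpens.exists_subset_of_mem_open hxN N.isOpen
  let A : X.Opens := ⟨(closure ({x} : Set X))ᶜ, isClosed_closure.isOpen_compl⟩
  have hηV := genericPoint_mem_of_mem hxV
  have hηA : genericPoint X ∈ A := fun hm =>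
    hxη ((specializes_iff_mem_closure.2 hm).antisymm (genericPoint_specializes x)).eq
  obtain ⟨g, hgA, hgη⟩ := hV.exists_basicOpen_le (⟨genericPoint X, hηA⟩ : A) hηV
  have hgm : X.presheaf.germ V x hxV g ∈ maximalIdeal (X.presheaf.stalk x) :=
    (mem_maximalIdeal _).2 fun hu => hgA ((X.mem_basicOpen g x hxV).2 hu) (subset_closure rfl)
  obtain ⟨W₀, hxW₀, t, rfl⟩ := G.presheaf.exists_germ_eq z
  rw [hz, Submodule.mem_colon_singleton, Submodule.mem_bot] at hgm
  have hxW : x ∈ V ⊓ W₀ := ⟨hxV, hxW₀⟩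
  have h0 : G.presheaf.germ (V ⊓ W₀) x hxW (res (inf_le_left : V ⊓ W₀ ≤ V) g • resM G inf_le_right t) =
      G.presheaf.germ (V ⊓ W₀) x hxW 0 := by
    rw [map_zero, ← hgm, QCohLoc.germ_smul']
    exact congrArg₂ (· • ·) (TopCat.Presheaf.germ_res_apply X.presheaf _ _ _ _)
      (TopCat.Presheaf.germ_res_apply G.presheaf _ _ _ _)
  obtain ⟨W, hxW', i, j, hW⟩ := G.presheaf.germ_eq x _ _ _ _ h0
  have hzero : resM G (i.le.trans inf_le_right) t = 0 := by
    apply resM_push_injective M U W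
    rw [map_zero]
    refine TopCat.Presheaf.section_ext ⟨G.presheaf, G.isSheaf⟩ (W ⊓ U) _ _ fun y hy => ?_
    rw [map_zero]
    let η : M ⟶ G := (Scheme.Modules.restrictAdjunction U.ι).unit.app M
    have hη : Function.Bijective (RefHull.stalkMapₗ η y) := Coherent.bijective_stalk_restrictUnit M hy.2
    obtain ⟨v, hv⟩ := hη.2 (G.presheaf.germ (W ⊓ U) y hy (resM G inf_le_left (resM G (i.le.trans inf_le_right) t)))
    rw [← hv]
    suffices v = 0 by rw [this, map_zero]
    have hyV : y ∈ V := (i.le hy.1).1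
    have hne : X.presheaf.germ V y hyV g ≠ 0 := fun e => by
      have h1 := (X.mem_basicOpen g _ hηV).1 hgη
      rw [← toGenRing_germ hyV, e, map_zero] at h1
      exact not_isUnit_zero h1
    haveI := htf y ⟨hy.2, hVN hyV⟩
    refine (smul_eq_zero.1 (hη.1 ?_)).resolve_left hne
    rw [map_zero, map_smul, hv]
    have h1 := congrArg (fun s => G.presheaf.germ W y hy.1 s) hW
    simp only [map_zero] at h1
    rw [TopCat.Presheaf.germ_res_apply, QCohLoc.germ_smul'] at h1
    refine Eq.trans (congrArg₂ (· • ·) (TopCat.Presheaf.germ_res_apply X.presheaf _ _ _ _).symm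
      ((TopCat.Presheaf.germ_res_apply G.presheaf _ _ _ _).trans
        ((TopCat.Presheaf.germ_res_apply G.presheaf _ _ _ _).trans
          (TopCat.Presheaf.germ_res_apply G.presheaf _ _ (i.le hy.1) _).symm))) h1
  refine hprime.ne_top (hz.trans (eq_top_iff.2 fun a _ => ?_))
  rw [Submodule.mem_colon_singleton, Submodule.mem_bot,
    ← TopCat.Presheaf.germ_res_apply G.presheaf (homOfLE (i.le.trans (inf_le_right : V ⊓ W₀ ≤ W₀))) x hxW' t]
  exact (congrArg (a • ·) ((congrArg (G.presheaf.germ W x hxW') hzero).trans (map_zero _))).trans (smul_zero a)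

/-- A coherent module free near the missing points is the direct image of its restriction. -/
theorem isIso_restrictUnit_of_free [IsLocallyNoetherian X] [IsIntegral X] (U : X.Opens)
    {F : X.Modules} (hF : Coh.IsCoh F)
    (hU : ∀ x : X, x ∉ U → (2 : ℕ∞) ≤ LocCoh.depth (X.presheaf.stalk x) (X.presheaf.stalk x) ∧
      ∃ W : X.Opens, x ∈ W ∧ FlatMod.IsFinLocFree (F.restrict W.ι)) :
    IsIso ((Scheme.Modules.restrictAdjunction U.ι).unit.app F) := by
  refine SDiv28.isIso_of_stalk_iso_or_two_le_depth _ hF (isQCoh_push_restrict F hF.1 U) fun x => ?_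
  by_cases hx : x ∈ U
  · exact Or.inl (Coherent.bijective_stalk_restrictUnit F hx)
  obtain ⟨hd, W, hxW, hW⟩ := hU x hx
  have hfree : ∀ y ∈ W, Module.Free (X.presheaf.stalk y) (F.presheaf.stalk y) :=
    (isFinLocFree_restrict_iff hF W).1 hW
  refine Or.inr ⟨?_, notMem_ass_push_of_nhd F U W hxW (ne_genericPoint_of_two_le_depth hd) fun y hy => ?_⟩
  · refine two_le_depth_of_isReflexiveAt hF ?_ hd
    haveI := hfree x hxW
    haveI := AssSch12.finite_stalk hF x
    show Module.IsReflexive (X.presheaf.stalk x) (F.presheaf.stalk x)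
    infer_instance
  · haveI := hfree y hy.2
    infer_instance

/-- The dimension of the local ring at a closed point of an integral scheme of finite type over a
field is the dimension of the scheme. -/
theorem ringKrullDim_stalk_of_isClosed {k : Type u} [Field k] [IsIntegral X]
    (c : X ⟶ Spec (CommRingCat.of k)) [LocallyOfFiniteType c] {x : X} (hx : IsClosed ({x} : Set X)) :
    ringKrullDim (X.presheaf.stalk x) = topologicalKrullDim X := by
  have h1 := VarietyLib.localDim_eq_stalk_add_ptDim (k := k) c x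
  rw [(DimLib.ptDim_eq_zero_iff c x).2 hx, Nat.cast_zero, add_zero] at h1
  rw [← h1]
  have hdim : ∀ U : X.Opens, x ∈ U →
      topologicalKrullDim (U : Set X) = (DimLib.ptDim c (genericPoint X) : WithBot ℕ∞) := by
    intro U hxU
    haveI : Nonempty ↥(U : Scheme.{u}) := ⟨⟨x, hxU⟩⟩
    haveI : IsIntegral (U : Scheme.{u}) := isIntegral_of_isOpenImmersion U.ι
    have h2 := DimLib.topologicalKrullDim_eq_ptDim_of_isGenericPoint (U.ι ≫ c)
      (genericPoint_spec ↥(U : Scheme.{u}))
    rw [DimLib.ptDim_of_isIso c U.ι, genericPoint_eq_of_isOpenImmersion U.ι] at h2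
    rw [← h2]
    exact ((Homeomorph.Set.univ ↥(U : Scheme.{u})).isHomeomorph.topologicalKrullDim_eq _).symm
  have htop : topologicalKrullDim X = (DimLib.ptDim c (genericPoint X) : WithBot ℕ∞) := by
    rw [← DimLib.topologicalKrullDim_eq_ptDim_of_isGenericPoint c (genericPoint_spec X)]
    exact ((Homeomorph.Set.univ X).isHomeomorph.topologicalKrullDim_eq _).symm
  rw [htop]
  unfold FlatMor.localDim
  haveI : Nonempty {U : TopologicalSpace.Opens X // x ∈ U} := ⟨⟨⊤, trivial⟩⟩
  exact le_antisymm ((iInf_le _ ⟨⊤, trivial⟩).trans (hdim ⊤ trivial).le)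
    (le_iInf fun U => (hdim U.1 U.2).ge)

/-- Extension of one resolution across a regular closed point. -/
theorem exists_extension [IsLocallyNoetherian X] [IsIntegral X] (U : X.Opens)
    (hdim : ∀ x : X, x ∉ U → IsRegularLocalRing (X.presheaf.stalk x) ∧ ringKrullDim (X.presheaf.stalk x) = 2)
    {F : X.Modules} (hF : Coh.IsCoh F)
    (hFU : ∀ x : X, x ∉ U → ∃ W : X.Opens, x ∈ W ∧ FlatMod.IsFinLocFree (F.restrict W.ι))
    (E : (U : Scheme.{u}).Modules) (π : E ⟶ F.restrict U.ι) (hE : FlatMod.IsFinLocFree E) [Epi π] :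
    ∃ (E' : X.Modules) (φ : E' ⟶ F), FlatMod.IsFinLocFree E' ∧
      ∀ x ∈ U, Function.Surjective ((DerSch.stalkFunctor X x).map φ) := by
  have hd : ∀ x : X, x ∉ U → (2 : ℕ∞) ≤ LocCoh.depth (X.presheaf.stalk x) (X.presheaf.stalk x) := by
    intro x hx
    obtain ⟨h1, h2⟩ := hdim x hx
    rw [CAlgH3.depth_eq_spanFinrank]
    have := IsRegularLocalRing.spanFinrank_maximalIdeal (R := X.presheaf.stalk x)
    rw [h2] at this
    have h3 : (maximalIdeal (X.presheaf.stalk x)).spanFinrank = 2 := by exact_mod_cast this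
    rw [h3]
    rfl
  have hEc : Coh.IsCoh E := Coherent.CohBC.isCoh_of_isFinLocFree hE
  haveI : Coh.IsQCoh E := hEc.1
  have hErefl : ∀ z, RefHull.IsReflexiveAt E z := fun z => by
    haveI := Props12.free_stalk_of_isFinLocFree E hE z
    haveI := AssSch12.finite_stalk hEc z
    show Module.IsReflexive _ _
    infer_instance
  obtain ⟨hC, hR⟩ := isCoh_and_isReflexive_push U hd E hEc hErefl
  haveI := isIso_restrictUnit_of_free U hF (fun x hx => ⟨hd x hx, hFU x hx⟩)
  let ad := Scheme.Modules.restrictAdjunction U.ι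
  let φ : (Scheme.Modules.pushforward U.ι).obj E ⟶ F :=
    (Scheme.Modules.pushforward U.ι).map π ≫ inv (ad.unit.app F)
  refine ⟨_, φ, ?_, ?_⟩
  · rw [isFinLocFree_iff_free_stalks hC]
    intro x
    by_cases hx : x ∈ U
    · let e : ((Scheme.Modules.pushforward U.ι).obj E).restrict U.ι ≅ E := (asIso ad.counit).app E
      haveI := Props12.free_stalk_of_isFinLocFree E hE ⟨x, hx⟩
      refine (free_stalk_restrict_iff U.ι _ ⟨x, hx⟩).1 (Module.Free.of_equiv
        (LinearEquiv.ofBijective (RefHull.stalkMapₗ e.inv ⟨x, hx⟩)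
          (ConcreteCategory.bijective_of_isIso ((DerSch.stalkFunctor U.toScheme ⟨x, hx⟩).map e.inv))))
    · obtain ⟨h1, h2⟩ := hdim x hx
      haveI := h1
      haveI := AssSch12.finite_stalk hC x
      haveI : Module.IsReflexive (X.presheaf.stalk x)
          (((Scheme.Modules.pushforward U.ι).obj E).presheaf.stalk x) := hR x
      exact free_of_reflexive_of_dim_le_two h2.le
  · intro x hx
    haveI : IsIso ((Scheme.Modules.restrictFunctor U.ι).map (ad.unit.app F)) := inferInstance
    haveI : Epi ((Scheme.Modules.restrictFunctor U.ι).map φ) := by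
      have h1 : (Scheme.Modules.restrictFunctor U.ι).map ((Scheme.Modules.pushforward U.ι).map π) =
          ((asIso ad.counit).app E).hom ≫ π ≫ ((asIso ad.counit).app (F.restrict U.ι)).inv := by
        rw [← Category.assoc, Iso.eq_comp_inv]
        exact ad.counit.naturality π
      rw [show φ = (Scheme.Modules.pushforward U.ι).map π ≫ inv (ad.unit.app F) from rfl,
        Functor.map_comp, h1]
      infer_instance
    haveI : Epi ((DerSch.stalkFunctor U.toScheme ⟨x, hx⟩).map ((Scheme.Modules.restrictFunctor U.ι).map φ)) :=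
      inferInstance
    have hs := (ModuleCat.epi_iff_surjective _).1 this
    obtain ⟨_, eA, -, -, hgA⟩ := exists_semilinear_restrict U.ι ((Scheme.Modules.pushforward U.ι).obj E) ⟨x, hx⟩
    obtain ⟨_, eB, -, -, hgB⟩ := exists_semilinear_restrict U.ι F ⟨x, hx⟩
    intro v
    obtain ⟨w, hw⟩ := hs (eB v)
    refine ⟨eA.symm w, eB.injective ?_⟩
    rw [← hw]
    obtain ⟨W, hW, m, rfl⟩ := (((Scheme.Modules.pushforward U.ι).obj E).restrict U.ι).presheaf.exists_germ_eq w
    obtain ⟨m', rfl⟩ : ∃ m' : Γ((Scheme.Modules.pushforward U.ι).obj E, U.ι ''ᵁ W),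
        (((Scheme.Modules.pushforward U.ι).obj E).restrictAppIso U.ι W).inv m' = m := ⟨m, rfl⟩
    rw [← hgA W hW m', eA.symm_apply_apply]
    change eB (RefHull.stalkMapₗ φ _ _) = RefHull.stalkMapₗ _ _ _
    rw [RefHull.stalkMapₗ_germ, hgB W hW, hgA W hW m', RefHull.stalkMapₗ_germ]
    rfl

/-- Two punctures. -/
theorem exists_locFree_epi_of_two {k : Type u} [Field k] [IsIntegral X]
    (c : X ⟶ Spec (CommRingCat.of k)) [LocallyOfFiniteType c]
    (hdim : topologicalKrullDim ↥X = 2)
    (F : X.Modules) (hF : Coh.IsCoh F) (p q : X) (hpq : p ≠ q)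
    (hp : IsClosed ({p} : Set X)) (hq : IsClosed ({q} : Set X))
    (hpreg : IsRegularLocalRing ↥(X.presheaf.stalk p)) (hqreg : IsRegularLocalRing ↥(X.presheaf.stalk q))
    (hFp : ∃ W : X.Opens, p ∈ W ∧ FlatMod.IsFinLocFree (F.restrict W.ι))
    (hFq : ∃ W : X.Opens, q ∈ W ∧ FlatMod.IsFinLocFree (F.restrict W.ι))
    (Up Uq : X.Opens) (hUp : (Up : Set X) = {p}ᶜ) (hUq : (Uq : Set X) = {q}ᶜ)
    (hp' : ∃ (E : (↑Up : Scheme.{u}).Modules) (π : E ⟶ F.restrict Up.ι), FlatMod.IsFinLocFree E ∧ Epi π)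
    (hq' : ∃ (E : (↑Uq : Scheme.{u}).Modules) (π : E ⟶ F.restrict Uq.ι), FlatMod.IsFinLocFree E ∧ Epi π) :
    ∃ (E : X.Modules) (π : E ⟶ F), FlatMod.IsFinLocFree E ∧ Epi π := by
  haveI : IsLocallyNoetherian X := LocallyOfFiniteType.isLocallyNoetherian c
  have key : ∀ (U : X.Opens) (r : X), (U : Set X) = {r}ᶜ → ∀ x : X, x ∉ U → x = r := by
    intro U r hU x hx
    by_contra h
    exact hx (show x ∈ (U : Set X) by rw [hU]; exact h)
  obtain ⟨E₁, π₁, hE₁, hπ₁⟩ := hp'
  obtain ⟨E₂, π₂, hE₂, hπ₂⟩ := hq'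
  obtain ⟨A, a, hA, ha⟩ := exists_extension Up (fun x hx => key Up p hUp x hx ▸
      ⟨hpreg, (ringKrullDim_stalk_of_isClosed c hp).trans hdim⟩) hF
    (fun x hx => key Up p hUp x hx ▸ hFp) E₁ π₁ hE₁
  obtain ⟨B, b, hB, hb⟩ := exists_extension Uq (fun x hx => key Uq q hUq x hx ▸
      ⟨hqreg, (ringKrullDim_stalk_of_isClosed c hq).trans hdim⟩) hF
    (fun x hx => key Uq q hUq x hx ▸ hFq) E₂ π₂ hE₂
  refine ⟨A ⊞ B, biprod.desc a b, WeilFin.isFinLocFree_biprod hA hB,
    OmegaLib.epi_of_stalks_surjective _ fun x v => ?_⟩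
  by_cases hx : x = p
  · have hxq : x ∈ Uq := show x ∈ (Uq : Set X) by rw [hUq]; exact hx ▸ hpq
    obtain ⟨w, hw⟩ := hb x hxq v
    refine ⟨(DerSch.stalkFunctor X x).map (biprod.inr : B ⟶ A ⊞ B) w, ?_⟩
    rw [← ConcreteCategory.comp_apply, ← Functor.map_comp, biprod.inr_desc]
    exact hw
  · have hxp : x ∈ Up := show x ∈ (Up : Set X) by rw [hUp]; exact hx
    obtain ⟨w, hw⟩ := ha x hxp v
    refine ⟨(DerSch.stalkFunctor X x).map (biprod.inl : A ⟶ A ⊞ B) w, ?_⟩
    rw [← ConcreteCategory.comp_apply, ← Functor.map_comp, biprod.inl_desc]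
    exact hw

end Groth.Agent.TwoPunct8
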